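import Groth.Agent.Grpd.InvAffine
import Groth.Agent.FibreFlat.Stalk
import Groth.Agent.RedSepLib.Basic
import Mathlib

/-!
Invariant affine opens cut out by one function, around orbits of generic points.
-/

set_option autoImplicit false
set_option linter.style.haveILetI false

universe u

open CategoryTheory CategoryTheory.Limits AlgebraicGeometry TopologicalSpace

namespace Groth.Agent.GrpdInvBasic

variable {A : Type u} [CommRing A] {X : Scheme.{u}} (j : X ⟶ Spec (CommRingCat.of A)) [IsImmersion j]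
  (I : Ideal A)

theorem avoid (hI : ∀ x : X, j x ∉ PrimeSpectrum.zeroLocus (I : Set A))
    (hcl : IsClosed (PrimeSpectrum.zeroLocus (I : Set A) ∪ Set.range j))
    {F : Set X} (hF : IsClosed F) {E : Set X} (hE : E.Finite) (hd : Disjoint E F) :
    ∃ h ∈ I, (∀ x ∈ F, x ∉ j ⁻¹ᵁ PrimeSpectrum.basicOpen h) ∧ ∀ x ∈ E, x ∈ j ⁻¹ᵁ PrimeSpectrum.basicOpen h := by
  rcases E.eq_empty_or_nonempty with rfl | ⟨y₀, hy₀⟩
  · exact ⟨0, zero_mem _, fun x _ h => h (zero_mem _), fun x hx => hx.elim⟩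
  let Z : Set (PrimeSpectrum A) := closure (j '' F)
  let J := I ⊓ PrimeSpectrum.vanishingIdeal Z
  have hnot : ¬ ((J : Set A) ⊆ ⋃ y ∈ E, ((j y).asIdeal : Set A)) := by
    rw [Ideal.subset_union_prime_finite hE y₀ y₀ fun y _ _ _ => (j y).2]
    rintro ⟨y, hy, hle⟩
    have h0 : I * PrimeSpectrum.vanishingIdeal Z ≤ (j y).asIdeal := Ideal.mul_le_inf.trans hle
    rcases (j y).isPrime.mul_le.1 h0 with h1 | h1
    · exact hI y h1
    · have h2 : j y ∈ closure (j '' F) := by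
        have h3 : j y ∈ PrimeSpectrum.zeroLocus (PrimeSpectrum.vanishingIdeal Z : Set A) := h1
        rw [PrimeSpectrum.zeroLocus_vanishingIdeal_eq_closure, isClosed_closure.closure_eq] at h3
        exact h3
      have h4 : y ∈ closure F := by rw [j.isEmbedding.isInducing.closure_eq_preimage_closure_image]; exact h2
      rw [hF.closure_eq] at h4
      exact Set.disjoint_left.1 hd hy h4
  obtain ⟨f, hfJ, hf⟩ := Set.not_subset.1 hnot
  simp only [Set.mem_iUnion, not_exists] at hf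
  refine ⟨f, hfJ.1, fun x hx h => ?_, fun x hx => hf x hx⟩
  exact h ((PrimeSpectrum.mem_vanishingIdeal _ _).1 hfJ.2 (j x) (subset_closure ⟨x, hx, rfl⟩))

theorem isClosedImmersion_restrict (hcl : IsClosed (PrimeSpectrum.zeroLocus (I : Set A) ∪ Set.range j))
    {h : A} (hh : h ∈ I) : IsClosedImmersion (j ∣_ PrimeSpectrum.basicOpen h) := by
  let D : (Spec (CommRingCat.of A)).Opens := PrimeSpectrum.basicOpen h
  change IsClosedImmersion (j ∣_ D)
  haveI : IsImmersion (j ∣_ D) := inferInstance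
  refine .of_isPreimmersion _ ?_
  have hr : Set.range ⇑(j ∣_ D) = ⇑D.ι ⁻¹' (PrimeSpectrum.zeroLocus (I : Set A) ∪ Set.range j) := by
    ext y
    constructor
    · rintro ⟨x, rfl⟩
      exact Or.inr ⟨(j ⁻¹ᵁ D).ι x, (congr($(morphismRestrict_ι j D) x)).symm⟩
    · intro hy
      rcases hy with hy | ⟨x, hx⟩
      · exact absurd (hy hh) y.2
      · refine ⟨⟨x, show j x ∈ D by rw [hx]; exact y.2⟩, D.ι.isOpenEmbedding.injective ?_⟩
        exact (congr($(morphismRestrict_ι j D) _)).trans hx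
  rw [hr]
  exact hcl.preimage D.ι.continuous

theorem isAffineOpen_preimage (hcl : IsClosed (PrimeSpectrum.zeroLocus (I : Set A) ∪ Set.range j))
    {h : A} (hh : h ∈ I) : IsAffineOpen (j ⁻¹ᵁ PrimeSpectrum.basicOpen h) := by
  let D : (Spec (CommRingCat.of A)).Opens := PrimeSpectrum.basicOpen h
  haveI : IsAffine D.toScheme := IsAffineOpen.Spec_basicOpen (R := CommRingCat.of A) h
  haveI := isClosedImmersion_restrict j I hcl hh
  exact IsClosedImmersion.isAffine_surjective_of_isAffine (j ∣_ D) |>.1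

omit j [IsImmersion j] in
/-- A function on a closed subscheme of a basic open of an affine scheme is a fraction. -/
theorem exists_fraction {Y : Scheme.{u}} [IsAffine Y] (c : Y ⟶ Spec (CommRingCat.of A)) (h : A)
    (hc : ∀ y, h ∉ (c y).asIdeal) (hcl : ∀ (k : Y ⟶ Spec (CommRingCat.of (Localization.Away h))),
      k ≫ Spec.map (CommRingCat.ofHom (algebraMap A (Localization.Away h))) = c → IsClosedImmersion k)
    (N : Γ(Y, ⊤)) : ∃ a : A, ∀ y, y ∈ Y.basicOpen N ↔ a ∉ (c y).asIdeal := by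
  let o := Spec.map (CommRingCat.ofHom (algebraMap A (Localization.Away h)))
  haveI : IsOpenImmersion o := IsOpenImmersion.of_isLocalization h
  have hr : Set.range c ⊆ Set.range o := by
    rintro _ ⟨y, rfl⟩
    exact (PrimeSpectrum.localization_away_comap_range (Localization.Away h) h).symm ▸ hc y
  let k := IsOpenImmersion.lift o c hr
  have hk : k ≫ o = c := IsOpenImmersion.lift_fac _ _ _
  haveI := hcl k hk
  obtain ⟨b', hb'⟩ := (IsClosedImmersion.isAffine_surjective_of_isAffine k).2 N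
  let η := Scheme.ΓSpecIso (CommRingCat.of (Localization.Away h))
  let b : Localization.Away h := η.hom.hom b'
  obtain ⟨⟨a, m⟩, ha⟩ := IsLocalization.surj (Submonoid.powers h) b
  refine ⟨a, fun y => ?_⟩
  have hb : η.inv.hom b = b' := by rw [← CommRingCat.comp_apply, Iso.hom_inv_id]; rfl
  have h1 : y ∈ Y.basicOpen N ↔ b ∉ (k y).asIdeal := by
    rw [← hb', ← Scheme.preimage_basicOpen_top, ← hb]
    show k y ∈ (Spec _).basicOpen ((Scheme.ΓSpecIso _).inv.hom b) ↔ _
    rw [basicOpen_eq_of_affine]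
    rfl
  have h2 : (c y).asIdeal = (k y).asIdeal.comap (algebraMap A (Localization.Away h)) := by
    rw [← hk, Scheme.Hom.comp_apply]
    rfl
  rw [h1, h2, Ideal.mem_comap, ← ha, not_iff_not]
  refine ⟨fun hb' => Ideal.mul_mem_right _ _ hb', fun hb' => ?_⟩
  refine ((k y).isPrime.mem_or_mem hb').resolve_right fun hm => (k y).isPrime.ne_top ?_
  exact Ideal.eq_top_of_isUnit_mem _ hm (IsLocalization.map_units _ m)

theorem mem_irreducibleComponents_of_maximal {X : Scheme.{u}} {x : X} (h : ∀ y, y ⤳ x → y = x) :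
    closure {x} ∈ irreducibleComponents X := by
  obtain ⟨Z, hZ, hxZ⟩ := exists_mem_irreducibleComponents_subset_of_isIrreducible
    (closure {x}) isIrreducible_singleton.closure
  obtain ⟨η, hη⟩ := QuasiSober.sober hZ.1 (isClosed_of_mem_irreducibleComponents Z hZ)
  have : η = x := h η (hη.specializes (hxZ (subset_closure rfl)))
  rw [← this, hη.def]
  exact hZ

variable {S : Scheme.{u}} (G : Grpd.GroupoidScheme S)

theorem main [IsFinite G.s] [LocallyOfFinitePresentation G.s] [IsFinite G.t]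
    (j : G.U ⟶ Spec (CommRingCat.of A)) [IsImmersion j]
    (hI : ∀ x : G.U, j x ∉ PrimeSpectrum.zeroLocus (I : Set A))
    (hcl : IsClosed (PrimeSpectrum.zeroLocus (I : Set A) ∪ Set.range j))
    (E : Set G.U) (hE : E.Finite) (hEmax : ∀ e ∈ E, ∀ y, y ⤳ e → y = e)
    (hEinv : ∀ r : G.R, G.s r ∈ E → G.t r ∈ E) :
    ∃ h ∈ I, IsAffineOpen (j ⁻¹ᵁ PrimeSpectrum.basicOpen h) ∧ E ⊆ (j ⁻¹ᵁ PrimeSpectrum.basicOpen h : G.U.Opens) ∧
      G.s ⁻¹ᵁ (j ⁻¹ᵁ PrimeSpectrum.basicOpen h) = G.t ⁻¹ᵁ (j ⁻¹ᵁ PrimeSpectrum.basicOpen h) := by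
  -- the open over which the source is flat on the reduction
  let ι := G.U.nilradical.subschemeι
  haveI : IsReduced G.U.nilradical.subscheme := RedSepLib.isReduced_subscheme_nilradical G.U
  let p₁ := pullback.fst G.s ι
  let p₂ := pullback.snd G.s ι
  let Fb : Set G.U := ι '' (p₂ '' (FibreFlat.flatOpen p₂ : Set _)ᶜ)
  have hFb : IsClosed Fb :=
    ι.isClosedMap _ (p₂.isClosedMap _ (FibreFlat.flatOpen p₂).2.isClosed_compl)
  have hEF : Disjoint E Fb := by
    rw [Set.disjoint_left]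
    rintro e he ⟨y, ⟨z, hz, rfl⟩, rfl⟩
    have hmax : ∀ y', y' ⤳ p₂ z → y' = p₂ z := fun y' hy' =>
      ι.isEmbedding.injective (hEmax _ he _ (hy'.map ι.continuous))
    have hfield := isField_stalk_of_closure_mem_irreducibleComponents _ _
      (mem_irreducibleComponents_of_maximal hmax)
    refine hz ?_
    show (p₂.stalkMap z).hom.Flat
    letI := hfield.toField
    letI : Algebra (G.U.nilradical.subscheme.presheaf.stalk (p₂ z))
        ((pullback G.s ι).presheaf.stalk z) := (p₂.stalkMap z).hom.toAlgebra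
    exact (inferInstance : Module.Flat (G.U.nilradical.subscheme.presheaf.stalk (p₂ z))
      ((pullback G.s ι).presheaf.stalk z))
  obtain ⟨h₀, hh₀, hF₀, hE₀⟩ := avoid j I hI hcl hFb hE hEF
  let D₀ := j ⁻¹ᵁ PrimeSpectrum.basicOpen h₀
  let M := GrpdLib.core G D₀
  have hEM : E ⊆ M := fun e he => (GrpdLib.mem_core_iff G _ _).2 fun r hr => hE₀ _ (hEinv r (hr.symm ▸ he))
  obtain ⟨h₁, hh₁, hF₁, hE₁⟩ := avoid j I hI hcl (F := (M : Set G.U)ᶜ) M.2.isClosed_compl hE
    (Set.disjoint_left.2 fun e he h => h (hEM he))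
  let D₁ := j ⁻¹ᵁ PrimeSpectrum.basicOpen h₁
  have hD₁M : D₁ ≤ M := fun x hx => by
    by_contra h
    exact hF₁ x h hx
  have hD₁ : IsAffineOpen D₁ := isAffineOpen_preimage j I hcl hh₁
  -- the reduction over D₁
  let X₁ := ι ⁻¹ᵁ D₁
  have hX₁ : IsAffineOpen X₁ := hD₁.preimage ι
  haveI : IsAffine X₁.toScheme := hX₁
  let g := p₂ ∣_ X₁
  haveI : IsFinite g := inferInstance
  haveI : LocallyOfFinitePresentation g :=
    IsZariskiLocalAtTarget.restrict (inferInstance : LocallyOfFinitePresentation p₂) _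
  haveI : IsAffine (p₂ ⁻¹ᵁ X₁).toScheme := hX₁.preimage p₂
  haveI : Flat g := by
    have hle : p₂ ⁻¹ᵁ X₁ ≤ FibreFlat.flatOpen p₂ := fun z hz => by
      by_contra h
      exact hF₀ _ ⟨p₂ z, ⟨z, h, rfl⟩, rfl⟩ (GrpdLib.core_le G D₀ (hD₁M hz))
    haveI : Flat ((p₂ ⁻¹ᵁ X₁).ι ≫ p₂) := by
      rw [← Scheme.homOfLE_ι _ hle, Category.assoc]
      exact MorphismProperty.comp_mem @Flat _ _ inferInstance (FibreFlat.flat_flatOpen p₂)
    haveI : Flat (g ≫ X₁.ι) := by rw [morphismRestrict_ι]; infer_instance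
    exact MorphismProperty.of_postcomp (W := @Flat) (W' := @IsOpenImmersion) g X₁.ι inferInstance ‹_›
  let q : (p₂ ⁻¹ᵁ X₁).toScheme ⟶ G.U := (p₂ ⁻¹ᵁ X₁).ι ≫ p₁ ≫ G.t
  have hqs : ∀ z : (p₂ ⁻¹ᵁ X₁).toScheme, G.s (p₁ ((p₂ ⁻¹ᵁ X₁).ι z)) ∈ D₁ := fun z => by
    rw [← Scheme.Hom.comp_apply, pullback.condition, Scheme.Hom.comp_apply]
    exact z.2
  let ψ := (q ≫ j).appTop.hom ((Scheme.ΓSpecIso (CommRingCat.of A)).inv.hom h₁)
  have hψ : ∀ z, z ∈ (p₂ ⁻¹ᵁ X₁).toScheme.basicOpen ψ ↔ q z ∈ D₁ := fun z => by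
    rw [← Scheme.preimage_basicOpen_top]
    show (q ≫ j) z ∈ (Spec _).basicOpen ((Scheme.ΓSpecIso _).inv.hom h₁) ↔ _
    rw [basicOpen_eq_of_affine, Scheme.Hom.comp_apply]
    rfl
  obtain ⟨N, hN⟩ := GrpdLib.exists_norm g ψ
  have hcore : ∀ x : X₁.toScheme, x ∈ X₁.toScheme.basicOpen N ↔ ι x.1 ∈ GrpdLib.core G D₁ := by
    intro x
    rw [hN, GrpdLib.mem_core_iff]
    constructor
    · intro h r hr
      obtain ⟨z, hz₁, hz₂⟩ := Scheme.Pullback.exists_preimage_pullback (f := G.s) (g := ι) r x.1 hr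
      have hzX : z ∈ p₂ ⁻¹ᵁ X₁ := show p₂ z ∈ X₁ from hz₂.symm ▸ x.2
      have := (hψ _).1 (h ⟨z, hzX⟩ (X₁.ι.isOpenEmbedding.injective
        ((congr($(morphismRestrict_ι p₂ X₁) ⟨z, hzX⟩)).trans hz₂)))
      exact hz₁ ▸ this
    · intro h z hz
      refine (hψ z).2 (h (p₁ z.1) ?_)
      have h1 : p₂ z.1 = x.1 :=
        ((congr($(morphismRestrict_ι p₂ X₁) z)).symm.trans (congrArg X₁.ι hz) : _)
      rw [← h1]
      exact congr($(pullback.condition (f := G.s) (g := ι)) z.1)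
  obtain ⟨a, ha⟩ := exists_fraction (X₁.ι ≫ ι ≫ j) h₁ (fun y => y.2) (fun k hk => by
    let o := Spec.map (CommRingCat.ofHom (algebraMap A (Localization.Away h₁)))
    haveI : IsOpenImmersion o := IsOpenImmersion.of_isLocalization h₁
    let D : (Spec (CommRingCat.of A)).Opens := PrimeSpectrum.basicOpen h₁
    haveI := isClosedImmersion_restrict j I hcl hh₁
    haveI : IsClosedImmersion (j ∣_ D) := ‹_›
    have ho : Set.range D.ι = Set.range o := by
      rw [Scheme.Opens.range_ι]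
      exact (PrimeSpectrum.localization_away_comap_range (Localization.Away h₁) h₁).symm
    let e := IsOpenImmersion.isoOfRangeEq D.ι o ho
    have hk' : k = (ι ∣_ D₁) ≫ (j ∣_ D) ≫ e.hom := by
      rw [← cancel_mono o, hk]
      simp only [Category.assoc, e, IsOpenImmersion.isoOfRangeEq_hom_fac, morphismRestrict_ι]
      exact (morphismRestrict_ι_assoc ι D₁ j).symm
    rw [hk']
    infer_instance) N
  have hmem : ∀ u : G.U, u ∈ j ⁻¹ᵁ PrimeSpectrum.basicOpen (a * h₁) ↔ u ∈ GrpdLib.core G D₁ := by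
    intro u
    obtain ⟨u', rfl⟩ : u ∈ Set.range ι := by
      rw [Scheme.IdealSheafData.range_subschemeι, Scheme.support_nilradical]; trivial
    constructor
    · intro hu
      have h1 : ι u' ∈ D₁ := fun h => hu (Ideal.mul_mem_left _ _ h)
      exact (hcore ⟨u', h1⟩).1 ((ha ⟨u', h1⟩).2 fun h => hu (Ideal.mul_mem_right _ _ h))
    · intro hu
      have h1 : ι u' ∈ D₁ := GrpdLib.core_le G _ hu
      have h2 := (ha ⟨u', h1⟩).1 ((hcore ⟨u', h1⟩).2 hu)
      exact fun h => (((j (ι u')).isPrime.mem_or_mem h).elim h2 h1)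
  have heq : j ⁻¹ᵁ PrimeSpectrum.basicOpen (a * h₁) = GrpdLib.core G D₁ :=
    Opens.ext (Set.ext hmem)
  refine ⟨a * h₁, I.mul_mem_left _ hh₁, isAffineOpen_preimage j I hcl (I.mul_mem_left _ hh₁), ?_, ?_⟩
  · intro e he
    exact (hmem e).2 ((GrpdLib.mem_core_iff G _ _).2 fun r hr => hE₁ _ (hEinv r (hr.symm ▸ he)))
  · rw [heq]
    exact GrpdLib.core_invariant G D₁

end Groth.Agent.GrpdInvBasic
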