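import Groth.Agent.GrpdInvBasic.Basic
import Groth.Agent.DvrDom.ClosedProper
import Mathlib

/-!
Invariant affine opens around an orbit all of whose points are maximal in an invariant closed set outside of
which the source is flat on the reduction.
-/

set_option autoImplicit false
set_option linter.style.haveILetI false

universe u

open CategoryTheory CategoryTheory.Limits AlgebraicGeometry TopologicalSpace

namespace Groth.Agent.GrpdInvBasic

variable {A : Type u} [CommRing A] {S : Scheme.{u}} (G : Grpd.GroupoidScheme S)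
  [IsFinite G.s] [LocallyOfFinitePresentation G.s] [IsFinite G.t]
  (I : Ideal A) (j : G.U ⟶ Spec (CommRingCat.of A)) [IsImmersion j]

omit [IsFinite G.t] in
/-- The image of the locus where the source, pulled back to `Y`, is not flat. -/
theorem isClosed_badImage {Y : Scheme.{u}} (ι : Y ⟶ G.U) [IsClosedImmersion ι] :
    IsClosed (ι '' (pullback.snd G.s ι '' (FibreFlat.flatOpen (pullback.snd G.s ι) : Set _)ᶜ)) :=
  ι.isClosedMap _ ((pullback.snd G.s ι).isClosedMap _ (FibreFlat.flatOpen _).2.isClosed_compl)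

/-- Over a closed subscheme on which the source is flat, the largest invariant open inside a basic open is
cut out by one function. -/
theorem norm_fraction {Y : Scheme.{u}} (ι : Y ⟶ G.U) [IsClosedImmersion ι]
    (hcl : IsClosed (PrimeSpectrum.zeroLocus (I : Set A) ∪ Set.range j)) (h : A) {h₁ : A} (hh₁ : h₁ ∈ I)
    (hflat : pullback.snd G.s ι ⁻¹ᵁ (ι ⁻¹ᵁ j ⁻¹ᵁ PrimeSpectrum.basicOpen h₁) ≤
      FibreFlat.flatOpen (pullback.snd G.s ι)) :
    ∃ a : A, ∀ y : Y, ι y ∈ j ⁻¹ᵁ PrimeSpectrum.basicOpen h₁ →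
      (a ∉ (j (ι y)).asIdeal ↔ ι y ∈ GrpdLib.core G (j ⁻¹ᵁ PrimeSpectrum.basicOpen h)) := by
  let p₁ := pullback.fst G.s ι
  let p₂ := pullback.snd G.s ι
  let D₁ := j ⁻¹ᵁ PrimeSpectrum.basicOpen h₁
  let D := j ⁻¹ᵁ PrimeSpectrum.basicOpen h
  have hD₁ : IsAffineOpen D₁ := isAffineOpen_preimage j I hcl hh₁
  let X₁ := ι ⁻¹ᵁ D₁
  have hX₁ : IsAffineOpen X₁ := hD₁.preimage ι
  haveI : IsAffine X₁.toScheme := hX₁
  let g := p₂ ∣_ X₁
  haveI : IsFinite g := inferInstance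
  haveI : LocallyOfFinitePresentation g :=
    IsZariskiLocalAtTarget.restrict (inferInstance : LocallyOfFinitePresentation p₂) _
  haveI : IsAffine (p₂ ⁻¹ᵁ X₁).toScheme := hX₁.preimage p₂
  haveI : Flat g := by
    haveI : Flat ((p₂ ⁻¹ᵁ X₁).ι ≫ p₂) := by
      rw [← Scheme.homOfLE_ι _ hflat, Category.assoc]
      exact MorphismProperty.comp_mem @Flat _ _ inferInstance (FibreFlat.flat_flatOpen p₂)
    haveI : Flat (g ≫ X₁.ι) := by rw [morphismRestrict_ι]; infer_instance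
    exact MorphismProperty.of_postcomp (W := @Flat) (W' := @IsOpenImmersion) g X₁.ι inferInstance ‹_›
  let q : (p₂ ⁻¹ᵁ X₁).toScheme ⟶ G.U := (p₂ ⁻¹ᵁ X₁).ι ≫ p₁ ≫ G.t
  let ψ := (q ≫ j).appTop.hom ((Scheme.ΓSpecIso (CommRingCat.of A)).inv.hom h)
  have hψ : ∀ z, z ∈ (p₂ ⁻¹ᵁ X₁).toScheme.basicOpen ψ ↔ q z ∈ D := fun z => by
    rw [← Scheme.preimage_basicOpen_top]
    show (q ≫ j) z ∈ (Spec _).basicOpen ((Scheme.ΓSpecIso _).inv.hom h) ↔ _
    rw [basicOpen_eq_of_affine, Scheme.Hom.comp_apply]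
    rfl
  obtain ⟨N, hN⟩ := GrpdLib.exists_norm g ψ
  have hcore : ∀ x : X₁.toScheme, x ∈ X₁.toScheme.basicOpen N ↔ ι x.1 ∈ GrpdLib.core G D := by
    intro x
    rw [hN, GrpdLib.mem_core_iff]
    constructor
    · intro h' r hr
      obtain ⟨z, hz₁, hz₂⟩ := Scheme.Pullback.exists_preimage_pullback (f := G.s) (g := ι) r x.1 hr
      have hzX : z ∈ p₂ ⁻¹ᵁ X₁ := show p₂ z ∈ X₁ from hz₂.symm ▸ x.2
      have := (hψ _).1 (h' ⟨z, hzX⟩ (X₁.ι.isOpenEmbedding.injective
        ((congr($(morphismRestrict_ι p₂ X₁) ⟨z, hzX⟩)).trans hz₂)))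
      exact hz₁ ▸ this
    · intro h' z hz
      refine (hψ z).2 (h' (p₁ z.1) ?_)
      have h1 : p₂ z.1 = x.1 :=
        ((congr($(morphismRestrict_ι p₂ X₁) z)).symm.trans (congrArg X₁.ι hz) : _)
      rw [← h1]
      exact congr($(pullback.condition (f := G.s) (g := ι)) z.1)
  obtain ⟨a, ha⟩ := exists_fraction (X₁.ι ≫ ι ≫ j) h₁ (fun y => y.2) (fun k hk => by
    let o := Spec.map (CommRingCat.ofHom (algebraMap A (Localization.Away h₁)))
    haveI : IsOpenImmersion o := IsOpenImmersion.of_isLocalization h₁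
    let D₂ : (Spec (CommRingCat.of A)).Opens := PrimeSpectrum.basicOpen h₁
    haveI := isClosedImmersion_restrict j I hcl hh₁
    haveI : IsClosedImmersion (j ∣_ D₂) := ‹_›
    have ho : Set.range D₂.ι = Set.range o := by
      rw [Scheme.Opens.range_ι]
      exact (PrimeSpectrum.localization_away_comap_range (Localization.Away h₁) h₁).symm
    let e := IsOpenImmersion.isoOfRangeEq D₂.ι o ho
    have hk' : k = (ι ∣_ D₁) ≫ (j ∣_ D₂) ≫ e.hom := by
      rw [← cancel_mono o, hk]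
      simp only [Category.assoc, e, IsOpenImmersion.isoOfRangeEq_hom_fac, morphismRestrict_ι]
      exact (morphismRestrict_ι_assoc ι D₁ j).symm
    rw [hk']
    infer_instance) N
  exact ⟨a, fun y hy => ((ha ⟨y, hy⟩).symm.trans (hcore ⟨y, hy⟩))⟩

/-- An invariant affine open around a finite invariant set whose points are maximal in an invariant closed
set `Z`, the source being flat on the reduction outside of `Z` near the set. -/
theorem mainClosed (hI : ∀ x : G.U, j x ∉ PrimeSpectrum.zeroLocus (I : Set A))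
    (hcl : IsClosed (PrimeSpectrum.zeroLocus (I : Set A) ∪ Set.range j))
    (Z : TopologicalSpace.Closeds G.U) (hZ : ∀ r : G.R, G.s r ∈ Z ↔ G.t r ∈ Z)
    (Bad : Set G.U) (hBad : IsClosed Bad)
    (hflatZ : ∀ z : ↑(pullback G.s G.U.nilradical.subschemeι),
      z ∈ FibreFlat.flatOpen (pullback.snd G.s G.U.nilradical.subschemeι) ∨
        G.U.nilradical.subschemeι (pullback.snd G.s G.U.nilradical.subschemeι z) ∈ (Z : Set G.U) ∪ Bad)
    (E : Set G.U) (hE : E.Finite) (hEZ : E ⊆ Z) (hEB : Disjoint E Bad)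
    (hEmax : ∀ e ∈ E, ∀ y ∈ Z, y ⤳ e → y = e) (hEinv : ∀ r : G.R, G.s r ∈ E → G.t r ∈ E) :
    ∃ W : G.U.Opens, IsAffineOpen W ∧ E ⊆ W ∧ G.s ⁻¹ᵁ W = G.t ⁻¹ᵁ W := by
  classical
  let J := Scheme.IdealSheafData.vanishingIdeal Z
  let ι := J.subschemeι
  haveI : IsReduced J.subscheme := DvrDom.isReduced_vanishingIdeal_subscheme Z
  have hιr : Set.range ι = (Z : Set G.U) := DvrDom.range_vanishingIdeal_subschemeι Z
  let Fb : Set G.U := ι '' (pullback.snd G.s ι '' (FibreFlat.flatOpen (pullback.snd G.s ι) : Set _)ᶜ)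
  have hFb : IsClosed Fb := isClosed_badImage G ι
  have hEF : Disjoint E (Fb ∪ Bad) := by
    refine Disjoint.union_right (Set.disjoint_left.2 ?_) hEB
    rintro e he ⟨y, ⟨z, hz, rfl⟩, rfl⟩
    have hmax : ∀ y', y' ⤳ pullback.snd G.s ι z → y' = pullback.snd G.s ι z := fun y' hy' =>
      ι.isEmbedding.injective (hEmax _ he _ (hιr.subset ⟨y', rfl⟩) (hy'.map ι.continuous))
    have hfield := isField_stalk_of_closure_mem_irreducibleComponents _ _
      (mem_irreducibleComponents_of_maximal hmax)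
    refine hz ?_
    show ((pullback.snd G.s ι).stalkMap z).hom.Flat
    letI := hfield.toField
    letI : Algebra (J.subscheme.presheaf.stalk (pullback.snd G.s ι z))
        ((pullback G.s ι).presheaf.stalk z) := ((pullback.snd G.s ι).stalkMap z).hom.toAlgebra
    exact (inferInstance : Module.Flat (J.subscheme.presheaf.stalk (pullback.snd G.s ι z))
      ((pullback G.s ι).presheaf.stalk z))
  obtain ⟨h₀, -, hF₀, hE₀⟩ := avoid j I hI hcl (hFb.union hBad) hE hEF
  let D₀ := j ⁻¹ᵁ PrimeSpectrum.basicOpen h₀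
  let M := GrpdLib.core G D₀
  have hEM : E ⊆ M := fun e he => (GrpdLib.mem_core_iff G _ _).2 fun r hr => hE₀ _ (hEinv r (hr.symm ▸ he))
  obtain ⟨h₁, hh₁, hF₁, hE₁⟩ := avoid j I hI hcl (F := (M : Set G.U)ᶜ) M.2.isClosed_compl hE
    (Set.disjoint_left.2 fun e he h => h (hEM he))
  let D₁ := j ⁻¹ᵁ PrimeSpectrum.basicOpen h₁
  have hD₁M : D₁ ≤ M := fun x hx => by
    by_contra h
    exact hF₁ x h hx
  have hD₁F : ∀ x ∈ D₁, x ∉ Fb ∪ Bad := fun x hx h => hF₀ x h (GrpdLib.core_le G D₀ (hD₁M hx))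
  obtain ⟨a, ha⟩ := norm_fraction G I j ι hcl h₁ hh₁ fun z hz => by
    by_contra h
    exact hD₁F _ hz (Or.inl ⟨_, ⟨z, h, rfl⟩, rfl⟩)
  -- the trace on `Z` of `D` is invariant
  let h := a * h₁
  have hh : h ∈ I := I.mul_mem_left _ hh₁
  let D := j ⁻¹ᵁ PrimeSpectrum.basicOpen h
  have hD : IsAffineOpen D := isAffineOpen_preimage j I hcl hh
  have hDZ : ∀ x ∈ Z, x ∈ D ↔ x ∈ GrpdLib.core G D₁ := by
    intro x hx
    obtain ⟨y, rfl⟩ := hιr.ge hx
    constructor
    · intro hu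
      have h1 : ι y ∈ D₁ := fun h' => hu (Ideal.mul_mem_left _ _ h')
      exact (ha y h1).1 fun h' => hu (Ideal.mul_mem_right _ _ h')
    · intro hu
      have h1 : ι y ∈ D₁ := GrpdLib.core_le G _ hu
      exact fun h' => (((j (ι y)).isPrime.mem_or_mem h').elim ((ha y h1).2 hu) h1)
  let C := GrpdLib.core G D
  have hZC : ∀ x ∈ Z, x ∈ D → x ∈ C := fun x hx hxD => (GrpdLib.mem_core_iff G _ _).2 fun r hr => by
    have h1 := (hDZ x hx).1 hxD
    have h2 : G.t r ∈ GrpdLib.core G D₁ := by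
      show r ∈ G.t ⁻¹ᵁ GrpdLib.core G D₁
      rw [← GrpdLib.core_invariant]
      show G.s r ∈ GrpdLib.core G D₁
      rw [hr]; exact h1
    exact (hDZ _ ((hZ r).1 (hr.symm ▸ hx))).2 h2
  refine ⟨C, ?_, fun e he => hZC e (hEZ he) ((hDZ e (hEZ he)).2
    ((GrpdLib.mem_core_iff G _ _).2 fun r hr => hE₁ _ (hEinv r (hr.symm ▸ he)))), GrpdLib.core_invariant G D⟩
  -- affineness, locally on `D`
  have hDD₁ : D ≤ D₁ := fun x hx h' => hx (Ideal.mul_mem_left _ _ h')
  have key : ∀ x ∈ D, ∃ φ : Γ(G.U, D), x ∈ G.U.basicOpen φ ∧ IsAffineOpen (C ⊓ G.U.basicOpen φ) := by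
    intro x hx
    by_cases hxC : x ∈ C
    · obtain ⟨φ, hφ, hxφ⟩ := hD.exists_basicOpen_le (⟨x, hxC⟩ : C) hx
      exact ⟨φ, hxφ, by rw [inf_eq_right.2 hφ]; exact hD.basicOpen φ⟩
    have hxZ : x ∉ (Z : Set G.U) := fun hxZ => hxC (hZC x hxZ hx)
    obtain ⟨w, hwI, hwF, hwx⟩ := avoid j I hI hcl (Z.isClosed) (Set.finite_singleton x)
      (Set.disjoint_singleton_left.2 hxZ)
    let h₂ := h * w
    let D₂ := j ⁻¹ᵁ PrimeSpectrum.basicOpen h₂
    have hD₂ : ∀ y ∈ D₂, y ∈ D ∧ y ∉ (Z : Set G.U) := fun y hy =>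
      ⟨fun h' => hy (Ideal.mul_mem_right _ _ h'), fun hyZ => hwF y hyZ fun h' => hy (Ideal.mul_mem_left _ _ h')⟩
    haveI : IsReduced G.U.nilradical.subscheme := RedSepLib.isReduced_subscheme_nilradical G.U
    obtain ⟨b, hb⟩ := norm_fraction G I j G.U.nilradical.subschemeι hcl h (h₁ := h₂) (I.mul_mem_left _ hwI)
      fun z hz => (hflatZ z).resolve_right fun hh' => hh'.elim (hD₂ _ hz).2
        fun hB => hD₁F _ (hDD₁ (hD₂ _ hz).1) (Or.inr hB)
    have hC2 : C ⊓ D₂ = j ⁻¹ᵁ PrimeSpectrum.basicOpen (b * h₂) := by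
      refine Opens.ext (Set.ext fun y => ?_)
      obtain ⟨y, rfl⟩ : y ∈ Set.range G.U.nilradical.subschemeι := by
        rw [Scheme.IdealSheafData.range_subschemeι, Scheme.support_nilradical]; trivial
      constructor
      · rintro ⟨h1, h2⟩ h'
        exact ((j (G.U.nilradical.subschemeι y)).isPrime.mem_or_mem h').elim ((hb y h2).2 h1) h2
      · intro hy
        have h2 : G.U.nilradical.subschemeι y ∈ D₂ := fun h' => hy (Ideal.mul_mem_left _ _ h')
        exact ⟨(hb y h2).1 fun h' => hy (Ideal.mul_mem_right _ _ h'), h2⟩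
    have hD₂aff : IsAffineOpen (C ⊓ D₂) := by
      rw [hC2]; exact isAffineOpen_preimage j I hcl (I.mul_mem_left _ (I.mul_mem_left _ hwI))
    let ψ : Γ(G.U, ⊤) := j.appTop.hom ((Scheme.ΓSpecIso (CommRingCat.of A)).inv.hom h₂)
    have hψ : G.U.basicOpen ψ = D₂ := by
      rw [show ψ = j.appTop.hom ((Scheme.ΓSpecIso (CommRingCat.of A)).inv.hom h₂) from rfl,
        ← Scheme.preimage_basicOpen_top, basicOpen_eq_of_affine]
    let φ : Γ(G.U, D) := G.U.presheaf.map (homOfLE (le_top : D ≤ ⊤)).op ψ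
    have hφ : G.U.basicOpen φ = D₂ := by
      rw [show φ = G.U.presheaf.map (homOfLE (le_top : D ≤ ⊤)).op ψ from rfl, Scheme.basicOpen_res, hψ]
      exact inf_eq_right.2 fun y hy => (hD₂ y hy).1
    exact ⟨φ, by rw [hφ]; exact fun h' => ((j x).isPrime.mem_or_mem h').elim hx (hwx x rfl), by rw [hφ]; exact hD₂aff⟩
  choose φ hxφ hφaff using key
  let s : Set Γ(G.U, D) := Set.range fun x : D => φ x.1 x.2
  have hs : Ideal.span s = ⊤ := hD.self_le_iSup_basicOpen_iff.1 fun x hx =>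
    Opens.mem_iSup.2 ⟨⟨φ x hx, ⟨⟨x, hx⟩, rfl⟩⟩, hxφ x hx⟩
  have hCD : C ≤ D := GrpdLib.core_le G D
  refine isAffineOpen_of_isAffineOpen_basicOpen C ((G.U.presheaf.map (homOfLE hCD).op).hom '' s) ?_ ?_
  · rw [← Ideal.map_span, hs, Ideal.map_top]
  · rintro _ ⟨_, ⟨x, rfl⟩, rfl⟩
    rw [Scheme.basicOpen_res]
    exact hφaff x.1 x.2

end Groth.Agent.GrpdInvBasic
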