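import Groth.Agent.GrpdInvBasic.Closed
import Groth.Agent.SepAffine.Main
import Groth.Agent.Grpd.Restrict
import Mathlib

/-!
Invariant affine neighbourhoods of orbits with one dimensional local rings.
-/

set_option autoImplicit false
set_option linter.style.haveILetI false

universe u

open CategoryTheory CategoryTheory.Limits AlgebraicGeometry TopologicalSpace

namespace Groth.Agent.GrpdInvBasic

/-- Fibres of finite morphisms carry no specialisations. -/
theorem eq_of_specializes_of_finite {X Y : Scheme.{u}} (f : X ⟶ Y) [IsFinite f] {a b : X} (h : a ⤳ b)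
    (he : f a = f b) : a = b := by
  have : DiscreteTopology ↥(f ⁻¹' {f b}) :=
    isDiscrete_iff_discreteTopology.1 (f.isDiscrete_preimage_singleton (f b))
  have hs : (⟨a, he⟩ : ↥(f ⁻¹' {f b})) ⤳ ⟨b, rfl⟩ := (subtype_specializes_iff _ _).2 h
  exact congrArg Subtype.val (specializes_iff_eq.1 hs)

variable {A : Type u} [CommRing A] {S : Scheme.{u}} (G : Grpd.GroupoidScheme S)
  [IsFinite G.s] [LocallyOfFinitePresentation G.s] [IsFinite G.t] [IsLocallyNoetherian G.U]
  (I : Ideal A) (j : G.U ⟶ Spec (CommRingCat.of A)) [IsImmersion j]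

theorem dimOne_aux (hI : ∀ x : G.U, j x ∉ PrimeSpectrum.zeroLocus (I : Set A))
    (hcl : IsClosed (PrimeSpectrum.zeroLocus (I : Set A) ∪ Set.range j))
    (E : Set G.U) (hE : E.Finite) (hdim : ∀ e ∈ E, ringKrullDim (G.U.presheaf.stalk e) ≤ 1)
    (hEinv : ∀ r : G.R, G.s r ∈ E → G.t r ∈ E)
    (htrans : ∀ a ∈ E, ∀ b ∈ E, ∃ r : G.R, G.s r = a ∧ G.t r = b) :
    ∃ W : G.U.Opens, IsAffineOpen W ∧ E ⊆ W ∧ G.s ⁻¹ᵁ W = G.t ⁻¹ᵁ W := by
  classical
  have hEinv' : ∀ r : G.R, G.t r ∈ E → G.s r ∈ E := fun r hr => by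
    obtain ⟨r', h₁, h₂⟩ := GrpdLib.exists_inv G r
    exact h₁ ▸ hEinv r' (h₂.symm ▸ hr)
  have hanti : ∀ e₀ ∈ E, ∀ e₁ ∈ E, e₀ ⤳ e₁ → e₀ = e₁ := by
    intro e₀ he₀ e₁ he₁ h
    by_contra hne
    obtain ⟨r, hr₀, hr₁⟩ := htrans e₀ he₀ e₁ he₁
    obtain ⟨r', hrr', hr'⟩ := G.s.isClosedMap.specializingMap (hr₀.symm ▸ h : G.s r ⤳ e₁)
    have he₂ : G.t r' ∈ E := hEinv r' (hr'.symm ▸ he₁)
    have h12 : e₁ ⤳ G.t r' := hr₁ ▸ hrr'.map G.t.continuous
    rcases SepAffine.eq_or_eq_of_specializes (hdim _ he₂) h h12 with e | e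
    · exact hne e
    · have : r = r' := eq_of_specializes_of_finite G.t hrr' (hr₁.trans e)
      exact hne (hr₀.symm.trans (this ▸ hr'))
  let Z : TopologicalSpace.Closeds G.U :=
    ⟨GrpdLib.sat G (closure E), G.t.isClosedMap _ (isClosed_closure.preimage G.s.continuous)⟩
  have hEZ : E ⊆ Z := fun e he => GrpdLib.subset_sat G _ (subset_closure he)
  have hclZ : closure E ⊆ Z := fun x hx => GrpdLib.subset_sat G _ hx
  have hEmax : ∀ e ∈ E, ∀ y ∈ Z, y ⤳ e → y = e := by
    rintro e he _ ⟨r, hr, rfl⟩ hy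
    obtain ⟨e₀, he₀, hcl₀⟩ : ∃ e₀ ∈ E, G.s r ∈ closure {e₀} := by
      have hr' : G.s r ∈ closure (⋃ x ∈ E, {x}) := by rwa [Set.biUnion_of_singleton]
      rw [hE.closure_biUnion] at hr'
      simpa only [Set.mem_iUnion, exists_prop] using hr'
    obtain ⟨r', hrr', hr'⟩ := G.t.isClosedMap.specializingMap hy
    have he₁ : G.s r' ∈ E := hEinv' r' (hr'.symm ▸ he)
    have h0 : e₀ ⤳ G.s r := specializes_iff_mem_closure.2 hcl₀
    have h1 : G.s r ⤳ G.s r' := hrr'.map G.s.continuous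
    have h01 := hanti e₀ he₀ _ he₁ (h0.trans h1)
    have : r = r' := eq_of_specializes_of_finite G.s hrr' (h1.antisymm (h01 ▸ h0)).eq
    rw [this, hr']
  let ι := G.U.nilradical.subschemeι
  haveI : IsReduced G.U.nilradical.subscheme := RedSepLib.isReduced_subscheme_nilradical G.U
  let Fb : Set G.U := ι '' (pullback.snd G.s ι '' (FibreFlat.flatOpen (pullback.snd G.s ι) : Set _)ᶜ)
  have hFb : IsClosed Fb := isClosed_badImage G ι
  have hFbmax : ∀ y, (∀ y', y' ⤳ y → y' = y) → y ∉ Fb := by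
    rintro _ hy ⟨y, ⟨z, hz, rfl⟩, rfl⟩
    have hmax : ∀ y', y' ⤳ pullback.snd G.s ι z → y' = pullback.snd G.s ι z := fun y' hy' =>
      ι.isEmbedding.injective (hy _ (hy'.map ι.continuous))
    have hfield := isField_stalk_of_closure_mem_irreducibleComponents _ _
      (mem_irreducibleComponents_of_maximal hmax)
    refine hz ?_
    show ((pullback.snd G.s ι).stalkMap z).hom.Flat
    letI := hfield.toField
    letI : Algebra (G.U.nilradical.subscheme.presheaf.stalk (pullback.snd G.s ι z))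
        ((pullback G.s ι).presheaf.stalk z) := ((pullback.snd G.s ι).stalkMap z).hom.toAlgebra
    exact (inferInstance : Module.Flat (G.U.nilradical.subscheme.presheaf.stalk (pullback.snd G.s ι z))
      ((pullback G.s ι).presheaf.stalk z))
  have hEB : Disjoint E (closure (Fb \ (Z : Set G.U))) := by
    refine Set.disjoint_left.2 fun e he hcle => ?_
    have heFb : e ∈ Fb := closure_minimal Set.sdiff_subset hFb hcle
    obtain ⟨O, hO, heO, -⟩ := exists_isAffineOpen_mem_and_subset (x := e) (U := (⊤ : G.U.Opens)) trivial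
    haveI : IsNoetherianRing Γ(G.U, O) := IsLocallyNoetherian.component_noetherian ⟨O, hO⟩
    haveI := hO.isOpenImmersion_fromSpec
    obtain ⟨K, hK⟩ := (PrimeSpectrum.isClosed_iff_zeroLocus_ideal _).1 (hFb.preimage hO.fromSpec.continuous)
    have hmem : ∀ q : PrimeSpectrum Γ(G.U, O), K ≤ q.asIdeal ↔ hO.fromSpec q ∈ Fb := fun q => by
      change q ∈ PrimeSpectrum.zeroLocus (K : Set Γ(G.U, O)) ↔ _
      rw [← hK]; rfl
    let p := hO.primeIdealOf ⟨e, heO⟩
    have hp : hO.fromSpec p = e := hO.fromSpec_primeIdealOf ⟨e, heO⟩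
    have hKp : p.asIdeal ∈ K.minimalPrimes := by
      refine ⟨⟨p.2, (hmem p).2 (hp.symm ▸ heFb)⟩, fun q hq hqp => ?_⟩
      by_contra hlt
      let q' : PrimeSpectrum Γ(G.U, O) := ⟨q, hq.1⟩
      have hsp : hO.fromSpec q' ⤳ e := hp ▸
        Specializes.map ((PrimeSpectrum.le_iff_specializes q' p).1 hqp) hO.fromSpec.continuous
      have hne : hO.fromSpec q' ≠ e := fun h => hlt
        (congrArg PrimeSpectrum.asIdeal (hO.fromSpec.isOpenEmbedding.injective (h.trans hp.symm))).ge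
      exact hFbmax _ (SepAffine.isMaxPoint_of_specializes (hdim e he) hsp hne) ((hmem q').1 hq.2)
    obtain ⟨t, ht, hsep⟩ := SepAffine.exists_separating hKp
    obtain ⟨y, hyt, hyFb, hyZ⟩ := mem_closure_iff.1 hcle _ (G.U.basicOpen t).2
      ((UfdExtend.mem_basicOpen_iff hO heO t).2 ht)
    have hyO : y ∈ O := G.U.basicOpen_le t hyt
    have h1 := hsep _ inferInstance ((UfdExtend.mem_basicOpen_iff hO hyO t).1 hyt)
      ((hmem _).2 (by rw [hO.fromSpec_primeIdealOf]; exact hyFb))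
    have h2 : e ⤳ y := by
      have := Specializes.map ((PrimeSpectrum.le_iff_specializes p _).1 h1) hO.fromSpec.continuous
      rwa [hO.fromSpec_primeIdealOf, hO.fromSpec_primeIdealOf] at this
    exact hyZ (hclZ (h2.mem_closed isClosed_closure (subset_closure he)))
  exact mainClosed G I j hI hcl Z (GrpdLib.mem_sat_iff G _) _ isClosed_closure (fun z => by
    by_cases hz : z ∈ FibreFlat.flatOpen (pullback.snd G.s ι)
    · exact Or.inl hz
    · refine Or.inr ?_
      by_cases hzZ : ι (pullback.snd G.s ι z) ∈ (Z : Set G.U)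
      · exact Or.inl hzZ
      · exact Or.inr (subset_closure ⟨⟨_, ⟨z, hz, rfl⟩, rfl⟩, hzZ⟩)) E hE hEZ hEB hEmax hEinv

end Groth.Agent.GrpdInvBasic
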